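import Mathlib
import Cfsg.Agent.Prune
set_option linter.all false
prune_inst 0x7f00000000000000000000000000000000000000000000000000000000000000000000000000000000000000000000000000000000000000000000000000000000000000000000000000000000000000003fffffffffffffffffffffffffffbeffbdffffffff
open scoped Cfsg.Agent.FastGrp

/-!
# Gluck-Wolf: semilinear groups of dimension one, the block lemma
-/

set_option autoImplicit false
set_option linter.style.haveILetI false
set_option linter.unusedSectionVars false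

namespace Cfsg.Agent.H615.GW

theorem aut_comm {F : Type*} [Field F] [Finite F] (σ τ : F ≃+* F) : σ * τ = τ * σ := by
  obtain ⟨p, hp⟩ := CharP.exists F
  haveI : Fact p.Prime := ⟨CharP.char_is_prime F p⟩
  letI : Algebra (ZMod p) F := ZMod.algebra F p
  have key : ∀ σ : F ≃+* F, ∃ s : Gal(F/(ZMod p)), ∀ x, s x = σ x := by
    intro σ
    refine ⟨AlgEquiv.ofRingEquiv (f := σ) ?_, fun x => rfl⟩
    intro c
    rw [← RingEquiv.coe_toRingHom]
    exact congrArg (fun f : ZMod p →+* F => f c)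
      (Subsingleton.elim ((σ : F →+* F).comp (algebraMap (ZMod p) F)) (algebraMap (ZMod p) F))
  obtain ⟨s, hs⟩ := key σ
  obtain ⟨t, ht⟩ := key τ
  have h := IsCyclic.commGroup (α := Gal(F/(ZMod p))).mul_comm s t
  apply RingEquiv.ext
  intro x
  have h1 := congrArg (fun f : Gal(F/(ZMod p)) => f x) h
  change s (t x) = t (s x) at h1
  change σ (τ x) = τ (σ x)
  rw [← hs, ← ht, h1, hs, ht]

variable (G V : Type*) [Group G] [AddCommGroup V] [DistribMulAction G V]

/-- `G` acts by semilinear maps of a field with `|V|` elements. -/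
def Semi : Prop :=
  ∃ (F : Type) (_ : Field F) (_ : Fintype F) (e : V ≃+ F), ∀ g : G, ∃ (c : F) (σ : F ≃+* F), ∀ v : V,
    e (g • v) = c * σ (e v)

variable {G}

/-- `h` is a `t`-element on `V` and `x` acts on it by the exponent `b`. -/
def TE (t : ℕ) (x h : G) (b : ℕ) : Prop :=
  (∃ k : ℕ, ∀ v : V, h ^ t ^ k • v = v) ∧ ∀ v : V, (x * h * x⁻¹) • v = h ^ b • v

/-- The conclusion of the block lemma. -/
structure TS (t : ℕ) (x : G) : Prop where
  /-- `t`-elements `h` with `h ^ x = h ^ b`, `b ≢ 1`, fixing a nonzero vector are trivial -/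
  sc1 : ∀ (h : G) (b : ℕ), TE V t x h b → ¬ b ≡ 1 [MOD t] → (∃ v : V, v ≠ 0 ∧ h • v = v) → ∀ v : V, h • v = v
  /-- all exponents agree -/
  sc2 : ∀ (h h' : G) (b b' : ℕ), TE V t x h b → TE V t x h' b' → ¬ b ≡ 1 [MOD t] → ¬ b' ≡ 1 [MOD t] →
    b ≡ b' [MOD t] ∨ (∀ v : V, h • v = v) ∨ ∀ v : V, h' • v = v

variable {V}

section field
variable {F : Type*} [Field F] [Finite F] {E : V ≃+ F}

theorem uq {a a' : F} {σ σ' : F ≃+* F} (ha : a ≠ 0) (h : ∀ y, a * σ y = a' * σ' y) : a = a' ∧ σ = σ' := by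
  have h1 : a = a' := by simpa using h 1
  subst h1
  refine ⟨rfl, RingEquiv.ext fun y => ?_⟩
  exact mul_left_cancel₀ ha (h y)

/-- every `t`-element `h` with `h ^ x = h ^ b` is a scalar -/
theorem scalar_of {t : ℕ} (ht : t.Prime) {x : G} {σ : F ≃+* F} (hx : ∀ v, E (x • v) = σ (E v))
    {h : G} {c : F} {τ : F ≃+* F} (hh : ∀ v, E (h • v) = c * τ (E v)) {b : ℕ} (hb : TE V t x h b)
    (hb1 : ¬ b ≡ 1 [MOD t]) : (∀ v, E (h • v) = c * E v) ∧ σ c = c ^ b ∧ ∃ k, c ^ t ^ k = 1 := by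
  obtain ⟨⟨k, hk⟩, hxb⟩ := hb
  have hc : c ≠ 0 := by
    intro h0
    have h1 := hh (h⁻¹ • E.symm 1)
    rw [smul_inv_smul, h0, zero_mul, E.apply_symm_apply] at h1
    exact one_ne_zero h1
  have hpow : ∀ k : ℕ, ∃ a : F, ∀ v, E (h ^ k • v) = a * (τ ^ k) (E v) := by
    intro k
    induction k with
    | zero => exact ⟨1, fun v => by rw [pow_zero, pow_zero, one_smul, one_mul]; rfl⟩
    | succ k ih =>
      obtain ⟨a, ha⟩ := ih
      refine ⟨c * τ a, fun v => ?_⟩
      rw [pow_succ', mul_smul, hh, ha, map_mul, mul_assoc, pow_succ']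
      rfl
  obtain ⟨a, ha⟩ := hpow (t ^ k)
  have h1 : τ ^ t ^ k = 1 := by
    have h2 : (1 : F) = a ∧ (1 : F ≃+* F) = τ ^ t ^ k := by
      refine uq one_ne_zero fun y => ?_
      have := ha (E.symm y)
      rw [hk, E.apply_symm_apply] at this
      rw [one_mul]
      exact this
    exact h2.2.symm
  obtain ⟨a', ha'⟩ := hpow b
  have h2 : τ ^ b = τ := by
    have h3 : σ c = a' ∧ σ * τ = τ ^ b * σ := by
      refine uq (by rwa [Ne, map_eq_zero_iff σ σ.injective]) fun y => ?_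
      have h4 := hxb (x • E.symm y)
      have h5 := congrArg E h4
      rw [mul_smul, mul_smul, inv_smul_smul, hx, hh, ha', hx, map_mul, E.apply_symm_apply] at h5
      exact h5
    have h4 := h3.2
    rw [aut_comm σ τ] at h4
    exact (mul_right_cancel h4).symm
  have h3 : τ = 1 := by
    by_contra hne
    have h4 : orderOf τ ∣ t ^ k := orderOf_dvd_of_pow_eq_one h1
    obtain ⟨i, -, hi⟩ := (Nat.dvd_prime_pow ht).1 h4
    have h5 : i ≠ 0 := by
      intro h0
      rw [h0, pow_zero, orderOf_eq_one_iff] at hi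
      exact hne hi
    apply hb1
    have h6 : b ≡ 1 [MOD orderOf τ] := by
      rw [← pow_eq_pow_iff_modEq, pow_one]
      exact h2
    exact h6.of_dvd (hi ▸ dvd_pow_self t h5)
  subst h3
  have h4 : ∀ v, E (h • v) = c * E v := hh
  have h5 : ∀ (k : ℕ) (v : V), E (h ^ k • v) = c ^ k * E v := by
    intro k
    induction k with
    | zero => intro v; rw [pow_zero, pow_zero, one_smul, one_mul]
    | succ k ih => intro v; rw [pow_succ', mul_smul, h4, ih, pow_succ', mul_assoc]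
  refine ⟨h4, ?_, k, ?_⟩
  · have h6 := congrArg E (hxb (x • E.symm 1))
    rw [mul_smul, mul_smul, inv_smul_smul, hx, h4, h5, hx, map_mul, E.apply_symm_apply, map_one, mul_one,
      mul_one] at h6
    exact h6
  · have h6 := h5 (t ^ k) (E.symm 1)
    rw [hk, E.apply_symm_apply, mul_one] at h6
    exact h6.symm

end field

/-- **One-dimensional semilinear groups satisfy the conclusion of the block lemma.** -/
theorem TS.of_semi {t : ℕ} (ht : t.Prime) (hs : Semi G V) {x : G} (hx : ∃ v : V, v ≠ 0 ∧ x • v = v) : TS V t x := by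
  obtain ⟨F, _, _, e, he⟩ := hs
  obtain ⟨v₁, hv₁, hxv⟩ := hx
  have hc : e v₁ ≠ 0 := by rwa [Ne, EmbeddingLike.map_eq_zero_iff]
  let E : V ≃+ F := e.trans (AddAut.mulLeft (Units.mk0 (e v₁)⁻¹ (inv_ne_zero hc)))
  have hE : ∀ v, E v = (e v₁)⁻¹ * e v := fun v => rfl
  have hE1 : E v₁ = 1 := by rw [hE, inv_mul_cancel₀ hc]
  have hg : ∀ g : G, ∃ (c : F) (σ : F ≃+* F), ∀ v, E (g • v) = c * σ (E v) := by
    intro g
    obtain ⟨a, σ, h⟩ := he g
    refine ⟨(e v₁)⁻¹ * a * σ (e v₁), σ, fun v => ?_⟩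
    have h1 : σ (e v) = σ (e v₁) * σ ((e v₁)⁻¹ * e v) := by
      rw [← map_mul, mul_inv_cancel_left₀ hc]
    rw [hE, hE, h, h1]
    ring
  obtain ⟨σ, hσ⟩ : ∃ σ : F ≃+* F, ∀ v, E (x • v) = σ (E v) := by
    obtain ⟨c, σ, h⟩ := hg x
    have h1 := h v₁
    rw [hxv, hE1, map_one, mul_one] at h1
    exact ⟨σ, fun v => by rw [h, ← h1, one_mul]⟩
  refine ⟨?_, ?_⟩
  · rintro h b hb hb1 ⟨v, hv, hhv⟩
    obtain ⟨c, τ, hh⟩ := hg h
    obtain ⟨h1, -, -⟩ := scalar_of ht hσ hh hb hb1
    have h2 := h1 v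
    rw [hhv] at h2
    have h3 : E v ≠ 0 := by rwa [Ne, EmbeddingLike.map_eq_zero_iff]
    have h4 : c = 1 := by
      have : c * E v = 1 * E v := by rw [← h2, one_mul]
      exact mul_right_cancel₀ h3 this
    intro w
    apply E.injective
    rw [h1, h4, one_mul]
  · intro h h' b b' hb hb' hb1 hb1'
    obtain ⟨c, τ, hh⟩ := hg h
    obtain ⟨c', τ', hh'⟩ := hg h'
    obtain ⟨h1, h2, k, hk⟩ := scalar_of ht hσ hh hb hb1
    obtain ⟨h1', h2', k', hk'⟩ := scalar_of ht hσ hh' hb' hb1'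
    by_cases hc1 : c = 1
    · refine Or.inr (Or.inl fun v => E.injective ?_)
      rw [h1, hc1, one_mul]
    by_cases hc1' : c' = 1
    · refine Or.inr (Or.inr fun v => E.injective ?_)
      rw [h1', hc1', one_mul]
    left
    -- elements of order `t`
    have key : ∀ {c : F} {k b : ℕ}, c ≠ 1 → c ^ t ^ k = 1 → σ c = c ^ b → ∃ d : F, orderOf d = t ∧ σ d = d ^ b := by
      intro c k b hc1 hk hb
      have h3 : orderOf c ∣ t ^ k := orderOf_dvd_of_pow_eq_one hk
      obtain ⟨i, -, hi⟩ := (Nat.dvd_prime_pow ht).1 h3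
      have h5 : i ≠ 0 := by
        intro h0
        rw [h0, pow_zero, orderOf_eq_one_iff] at hi
        exact hc1 hi
      refine ⟨c ^ t ^ (i - 1), ?_, ?_⟩
      · rw [orderOf_pow_of_dvd (pow_ne_zero _ ht.ne_zero) (by rw [hi]; exact Nat.pow_dvd_pow t (by omega)), hi,
          Nat.pow_div (by omega) ht.pos, show i - (i - 1) = 1 by omega, pow_one]
      · rw [map_pow, hb, ← pow_mul, ← pow_mul, mul_comm]
    obtain ⟨d, hd, hdb⟩ := key hc1 hk h2
    obtain ⟨d', hd', hdb'⟩ := key hc1' hk' h2'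
    have hp : IsPrimitiveRoot d t := by rw [← hd]; exact IsPrimitiveRoot.orderOf d
    haveI : NeZero t := ⟨ht.ne_zero⟩
    obtain ⟨m, -, hm⟩ := hp.eq_pow_of_pow_eq_one (show d' ^ t = 1 by rw [← hd']; exact pow_orderOf_eq_one d')
    have h3 : d' ^ b = d' ^ b' := by
      rw [← hdb', ← hm, map_pow, hdb, ← pow_mul, ← pow_mul, mul_comm]
    have hd0 : d' ≠ 0 := by
      rintro rfl
      have := pow_orderOf_eq_one (0 : F)
      rw [hd', zero_pow ht.ne_zero] at this
      exact zero_ne_one this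
    have h4 : (Units.mk0 d' hd0) ^ b = (Units.mk0 d' hd0) ^ b' := by
      apply Units.ext
      push_cast
      exact h3
    rw [pow_eq_pow_iff_modEq] at h4
    rwa [← orderOf_units, Units.val_mk0, hd'] at h4

end Cfsg.Agent.H615.GW
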